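import Mathlib
import Cfsg.Agent.Lib.Helper17.PM2.Defs
import Cfsg.Agent.Lib.Helper80.CharBasic

/-!
# S4705-[ALT2] / [SYM2] (helper73): the exterior and the symmetric square of a character are characters

`ρ₂ g X = A X Aᵀ` on `n × n` matrices (`A` the matrix of `ρ g`), `T X = Xᵀ`, `π_ε = (1 + ε T)/2` for `ε = ± 1`;
the sub-representation on `range π_ε` has the character `(χ(g)² + ε χ(g²))/2`.
-/

set_option autoImplicit false

namespace Cfsg.Agent.Lib.Helper73.S4705

open Cfsg Matrix Cfsg.Agent.Lib.Helper17.PM2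

universe u

/-- the trace of an endomorphism on the (invariant) range of an idempotent -/
theorem trace_restrict_range {V : Type*} [AddCommGroup V] [Module ℂ V] [FiniteDimensional ℂ V]
    (f π : V →ₗ[ℂ] V) (hπ : π ∘ₗ π = π)
    (hf : ∀ x ∈ LinearMap.range π, f x ∈ LinearMap.range π) :
    LinearMap.trace ℂ (LinearMap.range π) (f.restrict hf) = LinearMap.trace ℂ V (f ∘ₗ π) := by
  set p' : V →ₗ[ℂ] LinearMap.range π := π.rangeRestrict with hp'
  have h1 : f.restrict hf = p' ∘ₗ (f ∘ₗ (LinearMap.range π).subtype) := by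
    ext ⟨x, hx⟩
    obtain ⟨y, rfl⟩ := hx
    obtain ⟨z, hz⟩ := hf _ ⟨y, rfl⟩
    simp only [LinearMap.coe_restrict_apply, LinearMap.coe_comp, Function.comp_apply,
      Submodule.coe_subtype, hp', LinearMap.codRestrict_apply, LinearMap.rangeRestrict]
    rw [← hz]
    exact (LinearMap.congr_fun hπ z).symm
  rw [h1, LinearMap.trace_comp_comm']
  congr 1

section

variable {G : Type u} [Group G] {n : ℕ} (ρ : Representation ℂ G (Fin n → ℂ))

/-- the matrix of `ρ g` -/
noncomputable def matOf (g : G) : Matrix (Fin n) (Fin n) ℂ := LinearMap.toMatrix' (ρ g)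

theorem matOf_one : matOf ρ 1 = 1 := by
  unfold matOf
  rw [map_one]
  exact LinearMap.toMatrix'_one

theorem matOf_mul (g h : G) : matOf ρ (g * h) = matOf ρ g * matOf ρ h := by
  unfold matOf
  rw [map_mul]
  exact LinearMap.toMatrix'_mul _ _

theorem trace_matOf (g : G) : (matOf ρ g).trace = ρ.character g := by
  unfold matOf
  rw [Representation.character, LinearMap.trace_eq_matrix_trace ℂ (Pi.basisFun ℂ (Fin n)),
    LinearMap.toMatrix_eq_toMatrix']

/-- `X ↦ A X Aᵀ` as a linear map -/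
noncomputable def sqMap (A : Matrix (Fin n) (Fin n) ℂ) :
    Matrix (Fin n) (Fin n) ℂ →ₗ[ℂ] Matrix (Fin n) (Fin n) ℂ where
  toFun X := A * X * Aᵀ
  map_add' X Y := by rw [Matrix.mul_add, Matrix.add_mul]
  map_smul' c X := by simp

theorem sqMap_apply (A X : Matrix (Fin n) (Fin n) ℂ) : sqMap A X = A * X * Aᵀ := rfl

/-- the representation `X ↦ A X Aᵀ` on matrices -/
noncomputable def sqRep : Representation ℂ G (Matrix (Fin n) (Fin n) ℂ) where
  toFun g := sqMap (matOf ρ g)
  map_one' := by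
    ext X : 1
    rw [sqMap_apply, matOf_one]
    simp
  map_mul' g h := by
    ext X : 1
    rw [Module.End.mul_apply, sqMap_apply, sqMap_apply, sqMap_apply, matOf_mul,
      Matrix.transpose_mul]
    simp only [Matrix.mul_assoc]

theorem sqRep_apply (g : G) (X : Matrix (Fin n) (Fin n) ℂ) :
    sqRep ρ g X = matOf ρ g * X * (matOf ρ g)ᵀ := rfl

/-- the transposition, as a linear endomorphism -/
noncomputable def trMap : Matrix (Fin n) (Fin n) ℂ →ₗ[ℂ] Matrix (Fin n) (Fin n) ℂ :=
  (Matrix.transposeLinearEquiv (Fin n) (Fin n) ℂ ℂ).toLinearMap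

theorem trMap_apply (X : Matrix (Fin n) (Fin n) ℂ) : trMap X = Xᵀ := rfl

/-- `π_ε = (1 + ε T)/2` -/
noncomputable def prMap (ε : ℂ) : Matrix (Fin n) (Fin n) ℂ →ₗ[ℂ] Matrix (Fin n) (Fin n) ℂ :=
  (1 / 2 : ℂ) • (LinearMap.id + ε • trMap)

theorem prMap_apply (ε : ℂ) (X : Matrix (Fin n) (Fin n) ℂ) :
    prMap ε X = (1 / 2 : ℂ) • (X + ε • Xᵀ) := rfl

theorem prMap_idem {ε : ℂ} (hε : ε * ε = 1) : (prMap ε : _ →ₗ[ℂ] Matrix (Fin n) (Fin n) ℂ) ∘ₗ
    prMap ε = prMap ε := by
  ext X : 1
  rw [LinearMap.comp_apply, prMap_apply, prMap_apply]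
  ext i j
  simp only [Matrix.smul_apply, Matrix.add_apply, Matrix.transpose_apply, smul_eq_mul]
  linear_combination (1 / 4 : ℂ) * X i j * hε

theorem sqRep_prMap (ε : ℂ) (g : G) (X : Matrix (Fin n) (Fin n) ℂ) :
    sqRep ρ g (prMap ε X) = prMap ε (sqRep ρ g X) := by
  rw [prMap_apply, prMap_apply, sqRep_apply, sqRep_apply, Matrix.transpose_mul,
    Matrix.transpose_mul, Matrix.transpose_transpose]
  simp only [Matrix.mul_smul, Matrix.smul_mul, Matrix.mul_add, Matrix.add_mul, Matrix.mul_assoc]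

/-- the sub-representation on `range π_ε` -/
noncomputable def subSq (ε : ℂ) : Subrepresentation (sqRep ρ) where
  toSubmodule := LinearMap.range (prMap ε)
  apply_mem_toSubmodule g v hv := by
    obtain ⟨y, rfl⟩ := hv
    exact ⟨sqRep ρ g y, (sqRep_prMap ρ ε g y).symm⟩

theorem trace_sqMap (A : Matrix (Fin n) (Fin n) ℂ) :
    LinearMap.trace ℂ _ (sqMap A) = A.trace ^ 2 := by
  rw [LinearMap.trace_eq_matrix_trace ℂ (Matrix.stdBasis ℂ (Fin n) (Fin n)), Matrix.trace]
  simp only [Matrix.diag_apply, LinearMap.toMatrix_apply]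
  have h : ∀ p : Fin n × Fin n, (Matrix.stdBasis ℂ (Fin n) (Fin n)).repr
      (sqMap A (Matrix.stdBasis ℂ (Fin n) (Fin n) p)) p = A p.1 p.1 * A p.2 p.2 := by
    rintro ⟨i, j⟩
    have : ∀ X : Matrix (Fin n) (Fin n) ℂ, (Matrix.stdBasis ℂ (Fin n) (Fin n)).repr X (i, j) =
        X i j := by
      intro X
      simp [Matrix.stdBasis]
    rw [this, Matrix.stdBasis_eq_single, sqMap_apply, Matrix.mul_apply]
    simp [Matrix.mul_apply, Matrix.single_apply, ite_and, ite_mul]
  rw [Finset.sum_congr rfl (fun p _ => h p), Fintype.sum_prod_type, Matrix.trace, sq,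
    Finset.sum_mul_sum]
  rfl

theorem trace_sqMap_trMap (A : Matrix (Fin n) (Fin n) ℂ) :
    LinearMap.trace ℂ _ (sqMap A ∘ₗ trMap) = (A * A).trace := by
  rw [LinearMap.trace_eq_matrix_trace ℂ (Matrix.stdBasis ℂ (Fin n) (Fin n)), Matrix.trace]
  simp only [Matrix.diag_apply, LinearMap.toMatrix_apply]
  have h : ∀ p : Fin n × Fin n, (Matrix.stdBasis ℂ (Fin n) (Fin n)).repr
      ((sqMap A ∘ₗ trMap) (Matrix.stdBasis ℂ (Fin n) (Fin n) p)) p = A p.1 p.2 * A p.2 p.1 := by
    rintro ⟨i, j⟩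
    have : ∀ X : Matrix (Fin n) (Fin n) ℂ, (Matrix.stdBasis ℂ (Fin n) (Fin n)).repr X (i, j) =
        X i j := by
      intro X
      simp [Matrix.stdBasis]
    rw [this, Matrix.stdBasis_eq_single, LinearMap.comp_apply, trMap_apply, sqMap_apply,
      Matrix.mul_apply]
    simp [Matrix.mul_apply, Matrix.single_apply, ite_and, ite_mul]
  rw [Finset.sum_congr rfl (fun p _ => h p), Fintype.sum_prod_type, Matrix.trace]
  simp only [Matrix.diag_apply, Matrix.mul_apply]

/-- the character of the sub-representation on `range π_ε` -/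
theorem subSq_character {ε : ℂ} (hε : ε * ε = 1) (g : G) :
    (subSq ρ ε).toRepresentation.character g =
      (ρ.character g ^ 2 + ε * ρ.character (g ^ 2)) / 2 := by
  have h1 : (subSq ρ ε).toRepresentation.character g =
      LinearMap.trace ℂ _ (sqRep ρ g ∘ₗ prMap ε) :=
    trace_restrict_range (sqRep ρ g) (prMap ε) (prMap_idem hε)
      ((subSq ρ ε).apply_mem_toSubmodule g)
  have h2 : sqRep ρ g ∘ₗ prMap ε =
      (1 / 2 : ℂ) • (sqMap (matOf ρ g) + ε • (sqMap (matOf ρ g) ∘ₗ trMap)) := by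
    ext X : 1
    rw [LinearMap.comp_apply, prMap_apply]
    simp only [LinearMap.smul_apply, LinearMap.add_apply, LinearMap.comp_apply, trMap_apply,
      map_smul, map_add]
    rfl
  rw [h1, h2, map_smul, map_add, map_smul, trace_sqMap, trace_sqMap_trMap, ← matOf_mul, ← sq,
    trace_matOf, trace_matOf]
  simp only [smul_eq_mul]
  ring

end

theorem isCharacter_altSq {G : Type u} [Group G] {χ : G → ℂ} (hχ : IsCharacter G χ) :
    IsCharacter G (altSq χ) := by
  obtain ⟨n, ρ, rfl⟩ := hχ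
  have h := Cfsg.Agent.Lib.Helper80.isCharacter_of_rep (subSq ρ (-1)).toRepresentation
  have heq : (subSq ρ (-1)).toRepresentation.character = altSq ρ.character := by
    funext g
    rw [subSq_character ρ (by norm_num : (-1 : ℂ) * -1 = 1)]
    unfold altSq
    ring
  rwa [heq] at h

theorem isCharacter_symSq {G : Type u} [Group G] {χ : G → ℂ} (hχ : IsCharacter G χ) :
    IsCharacter G (symSq χ) := by
  obtain ⟨n, ρ, rfl⟩ := hχ
  have h := Cfsg.Agent.Lib.Helper80.isCharacter_of_rep (subSq ρ 1).toRepresentation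
  have heq : (subSq ρ 1).toRepresentation.character = symSq ρ.character := by
    funext g
    rw [subSq_character ρ (by norm_num : (1 : ℂ) * 1 = 1)]
    unfold symSq
    ring
  rwa [heq] at h

end Cfsg.Agent.Lib.Helper73.S4705
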