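import Mathlib
import Cfsg.Prelude.Def_Characters
import Cfsg.Prelude.Def_Blocks
import Cfsg.Agent.Lib.Helper17.PM2.Defs
import Cfsg.Agent.Lib.Helper75.Ito
import Cfsg.Agent.Lib.Helper76.Galois
import Cfsg.Agent.Lib.Helper77.CenterIrr
import Cfsg.Agent.Lib.Helper78.CharValues
import Cfsg.Agent.Lib.Helper15.DetChar

/-!
# S4705-[ZTRIV] (helper73, hedge): in the perfect setting with `|G| = |Z| p (p-1)(p-2)` the centre is trivial
-/

set_option autoImplicit false

namespace Cfsg.Agent.Lib.Helper73.S4705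

open Cfsg Cfsg.Agent.Lib.Helper17.PM2
open scoped ComplexConjugate commutatorElement

universe u

/-- the arithmetic core -/
theorem ztriv_arith (p d : ℕ) (hp : 5 < p) (h1 : d % p = 1) (hd1 : d ∣ (p - 1) * (p - 2))
    (hd2 : d + (p - 2) ∣ (p - 1) * (p - 2)) : d = 1 := by
  obtain ⟨t, rfl⟩ : ∃ t, p = t + 6 := ⟨p - 6, by omega⟩
  have e1 : t + 6 - 1 = t + 5 := by omega
  have e2 : t + 6 - 2 = t + 4 := by omega
  rw [e1, e2] at hd1 hd2
  obtain ⟨a, ha⟩ : ∃ a, d = 1 + (t + 6) * a :=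
    ⟨d / (t + 6), by have := Nat.div_add_mod d (t + 6); omega⟩
  by_contra hne
  have ha1 : 1 ≤ a := by
    rcases Nat.eq_zero_or_pos a with h | h
    · subst h
      omega
    · exact h
  obtain ⟨m, hm⟩ := hd1
  obtain ⟨m₂, hm₂⟩ := hd2
  have hd7 : t + 7 ≤ d := by nlinarith
  have hmlt : m < t + 6 := by
    by_contra h
    push Not at h
    nlinarith [Nat.mul_le_mul hd7 h]
  have hdvd : ((t : ℤ) + 6) ∣ (m : ℤ) - 2 := by
    refine ⟨(t : ℤ) + 3 - a * m, ?_⟩
    have hm' : ((t : ℤ) + 5) * (t + 4) = (1 + (t + 6) * a) * m := by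
      have := hm
      rw [ha] at this
      exact_mod_cast this
    linear_combination (-1) * hm'
  have hm2 : (m : ℤ) - 2 = 0 := by
    apply Int.eq_zero_of_abs_lt_dvd hdvd
    rw [abs_lt]
    constructor <;> omega
  have hm2' : m = 2 := by omega
  subst hm2'
  rcases m₂ with _ | _ | m₂
  · nlinarith
  · nlinarith
  · nlinarith

/-- an irreducible character of degree one of a perfect group is trivial -/
theorem linear_eq_one_of_perfect {G : Type u} [Group G] [Finite G] (hperf : commutator G = ⊤)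
    {χ : G → ℂ} (hχ : IsIrrCharacter G χ) (hd : charDegree χ = 1) (g : G) : χ g = 1 := by
  have h1 := Cfsg.Agent.Lib.Helper78.IsCharacter.apply_one_eq_charDegree
    (Cfsg.Agent.Lib.Helper78.IsIrrCharacter.isCharacter hχ)
  obtain ⟨n, ρ, -, rfl⟩ := hχ
  rw [hd, Representation.char_one] at h1
  have hn : n = 1 := by
    have : (n : ℂ) = 1 := by simpa using h1
    exact_mod_cast this
  subst hn
  have hdet : ρ.character g = LinearMap.det (ρ g) := by
    rw [Representation.character, LinearMap.trace_eq_matrix_trace ℂ (Pi.basisFun ℂ (Fin 1)),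
      Matrix.trace_fin_one, ← LinearMap.det_toMatrix (Pi.basisFun ℂ (Fin 1)), Matrix.det_fin_one]
  have hker : commutator G ≤ (Cfsg.Agent.Lib.Helper15.detHom ρ).ker :=
    Abelianization.commutator_subset_ker _
  have hg : g ∈ (Cfsg.Agent.Lib.Helper15.detHom ρ).ker := hker (hperf ▸ Subgroup.mem_top g)
  have h2 := Cfsg.Agent.Lib.Helper15.detHom_apply ρ g
  rw [MonoidHom.mem_ker.mp hg] at h2
  rw [hdet, ← h2]
  rfl

/-- a character which is `1` on `P ∖ 1` (`|P| = p`) has degree `≡ 1` mod `p` -/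
theorem degree_mod_of_one_on_P {G : Type u} [Group G] [Finite G] {p : ℕ} (hp : p.Prime)
    (P : Subgroup G) (hP : Nat.card P = p) {χ : G → ℂ} (hχ : IsCharacter G χ)
    (h1 : ∀ y ∈ P, y ≠ 1 → χ y = 1) : charDegree χ % p = 1 := by
  classical
  have hdeg := Cfsg.Agent.Lib.Helper78.IsCharacter.apply_one_eq_charDegree hχ
  obtain ⟨n, ρ, rfl⟩ := hχ
  have hp2 : 2 ≤ p := hp.two_le
  -- a generator of `P`
  have : Nontrivial P := by
    rw [← Finite.one_lt_card_iff_nontrivial, hP]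
    omega
  obtain ⟨y, hy⟩ := exists_ne (1 : P)
  have hyord : orderOf (y : G) = p := by
    have h1 : orderOf y ∣ p := hP ▸ orderOf_dvd_natCard y
    rw [Subgroup.orderOf_coe]
    rcases (Nat.dvd_prime hp).mp h1 with h | h
    · exact absurd (orderOf_eq_one_iff.mp h) hy
    · exact h
  have hyp : (y : G) ^ p = 1 := by rw [← hyord]; exact pow_orderOf_eq_one _
  obtain ⟨μ, hμ, hk⟩ := Cfsg.Agent.Lib.Helper76.exists_character_pow_eq_sum ρ (y : G) p
    (by omega) hyp
  -- the sum over the powers of `y`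
  have hsum1 : ∑ j ∈ Finset.range p, ρ.character ((y : G) ^ j) =
      (charDegree ρ.character : ℂ) + ((p - 1 : ℕ) : ℂ) := by
    obtain ⟨p', rfl⟩ : ∃ p', p = p' + 1 := ⟨p - 1, by omega⟩
    rw [Finset.sum_range_succ', pow_zero, hdeg, add_comm]
    congr 1
    rw [Nat.add_sub_cancel]
    have : ∀ j ∈ Finset.range p', ρ.character ((y : G) ^ (j + 1)) = 1 := by
      intro j hj
      rw [Finset.mem_range] at hj
      apply h1 _ (Subgroup.pow_mem _ y.2 _)
      apply pow_ne_one_of_lt_orderOf (by omega)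
      rw [hyord]
      omega
    rw [Finset.sum_congr rfl this]
    simp
  have hsum2 : ∑ j ∈ Finset.range p, ρ.character ((y : G) ^ j) =
      (p : ℂ) * ((Finset.univ.filter fun i => μ i = 1).card : ℂ) := by
    rw [Finset.sum_congr rfl (fun j _ => hk j), Finset.sum_comm]
    have : ∀ i, ∑ j ∈ Finset.range p, μ i ^ j = if μ i = 1 then (p : ℂ) else 0 := by
      intro i
      split_ifs with h
      · rw [h]
        simp
      · rw [geom_sum_eq h, hμ i, sub_self, zero_div]
    rw [Finset.sum_congr rfl (fun i _ => this i), Finset.sum_ite, Finset.sum_const_zero, add_zero,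
      Finset.sum_const, nsmul_eq_mul, mul_comm]
  have hnat : charDegree ρ.character + (p - 1) =
      p * (Finset.univ.filter fun i => μ i = 1).card := by
    have := hsum1.symm.trans hsum2
    exact_mod_cast this
  generalize (Finset.univ.filter fun i => μ i = 1).card = c at hnat
  have hc1 : 1 ≤ c := by
    rcases Nat.eq_zero_or_pos c with h | h
    · rw [h, mul_zero] at hnat
      omega
    · exact h
  obtain ⟨c', rfl⟩ : ∃ c', c = c' + 1 := ⟨c - 1, by omega⟩
  have hd : charDegree ρ.character = p * c' + 1 := by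
    rw [mul_add, mul_one] at hnat
    omega
  rw [hd, Nat.mul_add_mod, Nat.mod_eq_of_lt (by omega)]

variable {G : Type u} [Group G] [Fintype G] {p : ℕ}

theorem center_trivial (S : Setting G p)
    (hzreg : ∀ z ∈ Subgroup.center G, ¬ p ∣ orderOf z)
    (hcard : Nat.card G = Nat.card (Subgroup.center G) * (p * (p - 1) * (p - 2))) :
    Subgroup.center G = ⊥ := by
  classical
  have hp := S.hp
  have h5 := S.h5
  have hχ₁ := S.D.hχ₁
  have hχ₂ := S.D.hχ₂
  have hc₁ := Cfsg.Agent.Lib.Helper78.IsIrrCharacter.isCharacter hχ₁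
  have hc₂ := Cfsg.Agent.Lib.Helper78.IsIrrCharacter.isCharacter hχ₂
  have hone : ¬ p ∣ orderOf (1 : G) := by
    rw [orderOf_one]
    intro h
    have := Nat.le_of_dvd one_pos h
    omega
  -- the degrees
  have hd₁ := Cfsg.Agent.Lib.Helper78.IsCharacter.apply_one_eq_charDegree hc₁
  have hd₂ := Cfsg.Agent.Lib.Helper78.IsCharacter.apply_one_eq_charDegree hc₂
  have hrel1 := S.D.hrel 1 hone
  have hdd : charDegree S.D.χ₂ = charDegree S.D.χ₁ + (p - 2) := by
    rw [hd₁, hd₂, S.hdeg] at hrel1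
    have h2 : ((p - 2 : ℕ) : ℂ) = (p : ℂ) - 2 := by
      rw [Nat.cast_sub (by omega)]
      norm_num
    rw [← h2] at hrel1
    exact_mod_cast hrel1
  -- index of the centre
  have hidx : (Subgroup.center G).index = p * (p - 1) * (p - 2) := by
    have h := Subgroup.card_mul_index (Subgroup.center G)
    rw [hcard] at h
    exact Nat.eq_of_mul_eq_mul_left Nat.card_pos h
  have hab : ∀ a ∈ Subgroup.center G, ∀ b ∈ Subgroup.center G, a * b = b * a :=
    fun a _ b hb => (Subgroup.mem_center_iff.mp hb a)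
  have hito₁ := Cfsg.Agent.Lib.Helper75.ito (Subgroup.center G) hab S.D.χ₁ hχ₁
  have hito₂ := Cfsg.Agent.Lib.Helper75.ito (Subgroup.center G) hab S.D.χ₂ hχ₂
  rw [hidx, mul_assoc] at hito₁ hito₂
  -- congruences
  have hmod := degree_mod_of_one_on_P hp (S.P : Subgroup G) S.hP hc₁ S.D.hχ₁P
  have hcop₁ : Nat.Coprime (charDegree S.D.χ₁) p := by
    rw [Nat.coprime_comm, Nat.Prime.coprime_iff_not_dvd hp]
    intro h
    rw [Nat.dvd_iff_mod_eq_zero] at h
    omega
  have hcop₂ : Nat.Coprime (charDegree S.D.χ₂) p := by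
    rw [Nat.coprime_comm, Nat.Prime.coprime_iff_not_dvd hp]
    intro h
    rw [hdd] at h
    have h3 : (charDegree S.D.χ₁ + (p - 2)) % p = 0 := Nat.dvd_iff_mod_eq_zero.mp h
    rw [Nat.add_mod, hmod, Nat.mod_eq_of_lt (by omega : p - 2 < p)] at h3
    rw [Nat.mod_eq_of_lt (by omega)] at h3
    omega
  have hdv₁ := hcop₁.dvd_of_dvd_mul_left hito₁
  have hdv₂ := hcop₂.dvd_of_dvd_mul_left hito₂
  rw [hdd] at hdv₂
  have hdeg1 : charDegree S.D.χ₁ = 1 := ztriv_arith p _ h5 hmod hdv₁ hdv₂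
  have hχ₁one : ∀ g, S.D.χ₁ g = 1 := linear_eq_one_of_perfect S.hperf hχ₁ hdeg1
  -- the final step
  rw [Subgroup.eq_bot_iff_forall]
  intro z hz
  apply S.hfaith
  have hzc : ∀ (χ : IrrCharacter G), z ∈ Cfsg.Agent.Lib.Helper77.irrCenter χ := by
    intro χ
    rw [Cfsg.Agent.Lib.Helper77.mem_irrCenter_iff_commutator]
    intro h
    have : ⁅z, h⁆ = 1 := by
      rw [commutatorElement_eq_one_iff_commute]
      exact (Subgroup.mem_center_iff.mp hz h).symm
    rw [this]
    exact Subgroup.one_mem _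
  have hn₂ := (Cfsg.Agent.Lib.Helper77.mem_irrCenter ⟨S.D.χ₂, hχ₂⟩ z).mp (hzc _)
  have hnζ := (Cfsg.Agent.Lib.Helper77.mem_irrCenter ⟨S.ζ, S.hζ⟩ z).mp (hzc _)
  simp only at hn₂ hnζ
  rw [S.D.hrel z (hzreg z hz), hrel1, hχ₁one, hχ₁one, S.hdeg] at hn₂
  rw [S.hdeg] at hnζ
  rw [S.hdeg]
  have hp6 : (6 : ℝ) ≤ (p : ℝ) := by exact_mod_cast h5
  have e1 : ‖(1 : ℂ) + ((p : ℂ) - 2)‖ = (p : ℝ) - 1 := by
    have : (1 : ℂ) + ((p : ℂ) - 2) = (((p : ℝ) - 1 : ℝ) : ℂ) := by push_cast; ring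
    rw [this, Complex.norm_real, Real.norm_eq_abs, abs_of_nonneg (by linarith)]
  have e2 : ‖((p : ℂ) - 2)‖ = (p : ℝ) - 2 := by
    have : ((p : ℂ) - 2) = (((p : ℝ) - 2 : ℝ) : ℂ) := by push_cast; ring
    rw [this, Complex.norm_real, Real.norm_eq_abs, abs_of_nonneg (by linarith)]
  rw [e1] at hn₂
  rw [e2] at hnζ
  set w := S.ζ z with hw
  have h1 : (1 + w.re) * (1 + w.re) + w.im * w.im = ((p : ℝ) - 1) ^ 2 := by
    rw [← hn₂, Complex.sq_norm, Complex.normSq_apply]
    simp
  have h2 : w.re * w.re + w.im * w.im = ((p : ℝ) - 2) ^ 2 := by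
    rw [← hnζ, Complex.sq_norm, Complex.normSq_apply]
  have hre : w.re = (p : ℝ) - 2 := by nlinarith
  have him : w.im = 0 := by
    have : w.im * w.im = 0 := by nlinarith
    exact mul_self_eq_zero.mp this
  apply Complex.ext
  · rw [hre]
    simp
  · rw [him]
    simp

end Cfsg.Agent.Lib.Helper73.S4705
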